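import Mathlib
import Groth.Prelude.Def_ModSt
import Groth.Agent.StFib.Grpd

/-!
The category of modules on base changes is fibred in groupoids.
-/

set_option autoImplicit false
set_option backward.isDefEq.respectTransparency false

universe u

open CategoryTheory CategoryTheory.Limits AlgebraicGeometry

namespace Groth.Agent.ModSt71

open ModSt

variable {X S Y Z W : Scheme.{u}} {f : X ⟶ S}

/-- A comparison map whose composite with a cartesian one is cartesian is cartesian. -/
theorem isCart_of_comp {h₁ : Y ⟶ Z} {h₂ : Z ⟶ W} {P : W.Modules} {N : Z.Modules} {M : Y.Modules}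
    {c₁ : N ⟶ (Scheme.Modules.pushforward h₁).obj M} {c₂ : P ⟶ (Scheme.Modules.pushforward h₂).obj N}
    (hc₂ : IsCart h₂ c₂) (hc : IsCart (h₁ ≫ h₂) (c₂ ≫ (Scheme.Modules.pushforward h₂).map c₁ ≫
      (Scheme.Modules.pushforwardComp h₁ h₂).hom.app M)) :
    IsCart h₁ c₁ := by
  intro M'
  have heq : (fun v : M ⟶ M' => (c₂ ≫ (Scheme.Modules.pushforward h₂).map c₁ ≫
      (Scheme.Modules.pushforwardComp h₁ h₂).hom.app M) ≫ (Scheme.Modules.pushforward (h₁ ≫ h₂)).map v) =
      (((Scheme.Modules.pushforwardComp h₁ h₂).app M').homToEquiv ∘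
        (fun w : N ⟶ (Scheme.Modules.pushforward h₁).obj M' => c₂ ≫ (Scheme.Modules.pushforward h₂).map w)) ∘
        (fun v : M ⟶ M' => c₁ ≫ (Scheme.Modules.pushforward h₁).map v) := by
    funext v
    simp only [Function.comp_apply, Iso.homToEquiv_apply, Iso.app_hom, Category.assoc, Functor.map_comp]
    rw [← (Scheme.Modules.pushforwardComp h₁ h₂).hom.naturality v]
    rfl
  have h1 := hc M'
  rw [heq] at h1
  exact (Function.Bijective.of_comp_iff' ((Equiv.bijective _).comp (hc₂ _)) _).1 h1

theorem pushforwardCongr_symm_comp {a b : Y ⟶ Z} (e : a = b) (M : Y.Modules) :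
    (Scheme.Modules.pushforwardCongr e.symm).hom.app M ≫ (Scheme.Modules.pushforwardCongr e).hom.app M =
      𝟙 _ := by
  subst e
  ext
  simp

/-- Two morphisms with equal bases, equal top maps and comparisons agreeing after transport are equal. -/
theorem hom_ext_congr {A B : Obj f} {φ ψ : A ⟶ B} (hb : φ.base = ψ.base) (ht : φ.top = ψ.top)
    (hc : φ.c ≫ (Scheme.Modules.pushforwardCongr ht).hom.app A.E = ψ.c) : φ = ψ := by
  obtain ⟨b, t, wp, wq, c, hcart⟩ := φ
  obtain ⟨b', t', wp', wq', c', hcart'⟩ := ψ
  dsimp at hb ht hc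
  subst hb ht
  have : (Scheme.Modules.pushforwardCongr (rfl : t = t)).hom.app A.E = 𝟙 _ := by ext; simp
  rw [this, Category.comp_id] at hc
  subst hc
  rfl

/-- Morphisms over the same base are determined by their composite with any morphism. -/
theorem hom_cancel {A' A B : Obj f} (φ : A ⟶ B) {χ χ' : A' ⟶ A} (hb : χ.base = χ'.base)
    (h : χ ≫ φ = χ' ≫ φ) : χ = χ' := by
  have ht : χ.top = χ'.top := φ.isPullback_top.hom_ext (congrArg Obj.Hom.top h)
    (by rw [χ.w_q, χ'.w_q, hb])
  obtain ⟨b, t, wp, wq, c, hcart⟩ := χ
  obtain ⟨b', t', wp', wq', c', hcart'⟩ := χ'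
  dsimp at hb ht
  subst hb ht
  have h2 : HEq (({ base := b, top := t, w_p := wp, w_q := wq, c := c, cart := hcart } : A' ⟶ A) ≫ φ).c
      (({ base := b, top := t, w_p := wp', w_q := wq', c := c', cart := hcart' } : A' ⟶ A) ≫ φ).c := by
    rw [h]
  have h2 := eq_of_heq h2
  simp only [Obj.comp_c] at h2
  have h3 := (φ.cart _).1 ((cancel_mono ((Scheme.Modules.pushforwardComp t φ.top).hom.app A'.E)).1
    (((Category.assoc _ _ _).trans h2).trans (Category.assoc _ _ _).symm))
  subst h3
  rfl

theorem isFibGrpd_forget (f : X ⟶ S) : FibCat.IsFibGrpd (Obj.forget f) where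
  exists_lift {B V} g := by
    let T : Scheme.{u} := pullback B.q g.left
    let A : Obj f :=
      { base := V
        XT := T
        p := pullback.fst B.q g.left ≫ B.p
        q := pullback.snd B.q g.left
        isPullback := by
          have h := (IsPullback.of_hasPullback B.q g.left).paste_horiz B.isPullback
          have e := Over.w g
          rw [show g.left ≫ B.base.hom = V.hom from e] at h
          exact h
        E := (Scheme.Modules.pullback (pullback.fst B.q g.left)).obj B.E }
    let φ : A ⟶ B :=
      { base := g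
        top := pullback.fst B.q g.left
        w_p := rfl
        w_q := pullback.condition
        c := (Scheme.Modules.pullbackPushforwardAdjunction (pullback.fst B.q g.left)).unit.app B.E
        cart := fun M' => by
          have := ((Scheme.Modules.pullbackPushforwardAdjunction (pullback.fst B.q g.left)).homEquiv
            B.E M').bijective
          convert this using 1
          funext v
          exact (Adjunction.homEquiv_unit _ _ _ _).symm }
    exact ⟨A, φ, IsHomLift.map (Obj.forget f) φ⟩
  isStronglyCartesian {A B} φ :=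
    { universal_property' := fun {A'} g ψ hψ => by
        have hb : ψ.base = g ≫ φ.base :=
          (IsHomLift.eq_of_isHomLift (Obj.forget f) (g ≫ (Obj.forget f).map φ) ψ).symm
        have hw : ψ.top ≫ B.q = (A'.q ≫ g.left) ≫ φ.base.left := by
          rw [ψ.w_q, hb, Over.comp_left, Category.assoc]
        let t : A'.XT ⟶ A.XT := φ.isPullback_top.lift ψ.top (A'.q ≫ g.left) hw
        have ht : t ≫ φ.top = ψ.top := φ.isPullback_top.lift_fst _ _ _
        have htq : t ≫ A.q = A'.q ≫ g.left := φ.isPullback_top.lift_snd _ _ _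
        have htp : t ≫ A.p = A'.p := by rw [← φ.w_p, reassoc_of% ht, ψ.w_p]
        obtain ⟨c, hc⟩ := (φ.cart ((Scheme.Modules.pushforward t).obj A'.E)).2
          (ψ.c ≫ (Scheme.Modules.pushforwardCongr ht.symm).hom.app A'.E ≫
            (Scheme.Modules.pushforwardComp t φ.top).inv.app A'.E)
        have hc' : φ.c ≫ (Scheme.Modules.pushforward φ.top).map c ≫
            (Scheme.Modules.pushforwardComp t φ.top).hom.app A'.E =
            ψ.c ≫ (Scheme.Modules.pushforwardCongr ht.symm).hom.app A'.E := by
          dsimp only at hc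
          rw [← Category.assoc, hc, Category.assoc, Category.assoc, Iso.inv_hom_id_app]
          simp
        let χ : A' ⟶ A :=
          { base := g
            top := t
            w_p := htp
            w_q := htq
            c := c
            cart := isCart_of_comp φ.cart (hc' ▸ ψ.cart.congr ht.symm) }
        have hcomp : χ ≫ φ = ψ := by
          refine hom_ext_congr hb.symm ht ?_
          rw [Obj.comp_c]
          refine ((congrArg (· ≫ _) hc').trans ?_)
          simp only [Category.assoc]
          rw [pushforwardCongr_symm_comp, Category.comp_id]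
        refine ⟨χ, ⟨IsHomLift.map (Obj.forget f) χ, hcomp⟩, ?_⟩
        rintro χ' ⟨hχ', h2⟩
        exact hom_cancel φ (IsHomLift.eq_of_isHomLift (Obj.forget f) g χ').symm (h2.trans hcomp.symm) }

/-- The comparison map exhibits the source module as the inverse image. -/
theorem nonempty_pullback_iso {A B : Obj f} (φ : A ⟶ B) :
    Nonempty ((Scheme.Modules.pullback φ.top).obj B.E ≅ A.E) := by
  let adj := Scheme.Modules.pullbackPushforwardAdjunction φ.top
  let m : (Scheme.Modules.pullback φ.top).obj B.E ⟶ A.E := (adj.homEquiv _ _).symm φ.c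
  have hbij : ∀ M' : A.XT.Modules, Function.Bijective (fun v : A.E ⟶ M' => m ≫ v) := fun M' => by
    have h : (fun v : A.E ⟶ M' => m ≫ v) = (adj.homEquiv _ _).symm ∘
        (fun v : A.E ⟶ M' => φ.c ≫ (Scheme.Modules.pushforward φ.top).map v) := by
      funext v
      exact (adj.homEquiv_naturality_right_symm φ.c v).symm
    rw [h]
    exact (Equiv.bijective _).comp (φ.cart M')
  obtain ⟨n, hn⟩ := (hbij _).2 (𝟙 _)
  exact ⟨⟨m, n, hn, (hbij _).1 (by simp [reassoc_of% hn])⟩⟩

end Groth.Agent.ModSt71
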